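import Cfsg.Agent.H672.Four.Interface

/-!
# S4773, task F2b: elements fixed by no coprime automorphism, general lemmas (helper264)
-/

set_option autoImplicit false

namespace Cfsg.Agent.H264.ES

open Cfsg.Agent.H672.Four (ES)

universe u v

theorem es_congr {S : Type u} {S' : Type v} [Group S] [Group S'] (e : S ≃* S') {s : S} (h : ES s) : ES (e s) := by
  intro a ha hd hf
  have h1 : orderOf ((MulAut.congr e).symm a) = orderOf a := MulEquiv.orderOf_eq _ _
  refine h ((MulAut.congr e).symm a) (by rw [h1]; exact ha) (by rw [h1, Nat.card_congr e.toEquiv]; exact hd) ?_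
  have h2 : (MulAut.congr e).symm a s = e.symm (a (e s)) := rfl
  rw [h2, hf, e.symm_apply_apply]

theorem exists_congr {S : Type u} {S' : Type v} [Group S] [Group S'] (e : S ≃* S') (h : ∃ s : S, ES s) :
    ∃ s : S', ES s := by
  obtain ⟨s, hs⟩ := h
  exact ⟨e s, es_congr e hs⟩

/-- no coprime automorphism: every element will do -/
theorem es_of_forall {S : Type u} [Group S] (h : ∀ a : MulAut S, (orderOf a).Prime → orderOf a ∣ Nat.card S) :
    ∃ s : S, ES s :=
  ⟨1, fun a ha hd => absurd (h a ha) hd⟩

/-- a coprime automorphism of prime order is not inner -/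
theorem not_inner {S : Type u} [Group S] [Finite S] {a : MulAut S} (ha : (orderOf a).Prime)
    (hd : ¬ orderOf a ∣ Nat.card S) : ¬ ∃ g : S, a = MulAut.conj g := by
  rintro ⟨g, rfl⟩
  have h1 : orderOf (MulAut.conj g) ∣ orderOf g := orderOf_map_dvd MulAut.conj g
  exact hd (h1.trans (orderOf_dvd_natCard g))

end Cfsg.Agent.H264.ES
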